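import Mathlib

universe u
open AlgebraicGeometry CategoryTheory Topology TopologicalSpace

namespace Groth.Agent.FlatDense

theorem mem_of_dense_of_max {T : Type*} [TopologicalSpace T] [NoetherianSpace T] [QuasiSober T]
    [T0Space T] {U : Set T} (hU : IsOpen U) (hd : Dense U) {y : T}
    (hy : ∀ y', y' ⤳ y → y' = y) : y ∈ U := by
  have hirr : IsIrreducible (closure ({y} : Set T)) := isIrreducible_singleton.closure
  have hmem : closure ({y} : Set T) ∈ irreducibleComponents T := by
    refine ⟨hirr, fun s hs hle => ?_⟩
    have hg := hs.isGenericPoint_genericPoint_closure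
    have hs2 : s ⊆ closure s := subset_closure
    have h1 : hs.genericPoint ⤳ y := by
      rw [specializes_iff_mem_closure, hg.def]
      exact hs2 (hle (subset_closure rfl))
    rw [← hy _ h1, hg.def]
    exact hs2
  obtain ⟨W, hW, hne, hWs⟩ := NoetherianSpace.exists_isOpen_nonempty_subset_irreducibleComponent _ hmem
  obtain ⟨z, hzW, hzU⟩ := hd.inter_open_nonempty W hW hne
  have : y ⤳ z := specializes_iff_mem_closure.2 (hWs hzW)
  exact this.mem_open hU hzU

theorem mem_of_dense_of_max_scheme {Y : Scheme.{u}} [IsLocallyNoetherian Y] (U : Y.Opens)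
    (hd : Dense (U : Set Y)) {y : Y} (hy : ∀ y', y' ⤳ y → y' = y) : y ∈ U := by
  obtain ⟨V, hV, hyV, -⟩ := exists_isAffineOpen_mem_and_subset (U := (⊤ : Y.Opens)) (x := y) trivial
  have : IsAffine V.toScheme := hV
  have : IsNoetherian V.toScheme := { }
  have := mem_of_dense_of_max (T := V.toScheme) (U := V.ι ⁻¹' (U : Set Y))
    (U.2.preimage V.ι.continuous) (hd.preimage V.ι.isOpenEmbedding.isOpenMap)
    (y := (⟨y, hyV⟩ : V)) (fun y' h => V.ι.isOpenEmbedding.injective (hy _ (h.map V.ι.continuous)))
  exact this

theorem dense_preimage_of_flat {X Y : Scheme.{u}} [IsLocallyNoetherian Y] (f : X ⟶ Y) [Flat f]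
    (U : Y.Opens) (hd : Dense (U : Set Y)) : Dense ((f ⁻¹ᵁ U : X.Opens) : Set X) := by
  intro x
  let Z := irreducibleComponent x
  have hZ : IsIrreducible Z := isIrreducible_irreducibleComponent
  let η := hZ.genericPoint
  have hη : IsGenericPoint η Z := by
    have := hZ.isGenericPoint_genericPoint_closure
    rwa [isClosed_irreducibleComponent.closure_eq] at this
  have hmax : ∀ η', η' ⤳ η → η' = η := fun η' h => by
    have hsub : Z ⊆ closure {η'} := by
      rw [← hη.def]
      exact closure_minimal (by simpa using specializes_iff_mem_closure.1 h) isClosed_closure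
    have := eq_irreducibleComponent (x := x) isPreirreducible_singleton.closure hsub
    exact ((Specializes.antisymm (specializes_iff_mem_closure.2 (by
      rw [hη.def]; exact this.le (subset_closure rfl)) : η ⤳ η') h).eq).symm
  have hmaxY : ∀ y', y' ⤳ f η → y' = f η := fun y' h => by
    obtain ⟨η', h1, h2⟩ := (AlgebraicGeometry.Flat.generalizingMap f) h
    rw [← h2, hmax η' h1]
  have hηU : η ∈ f ⁻¹ᵁ U := mem_of_dense_of_max_scheme U hd hmaxY
  have : η ⤳ x := hη.specializes mem_irreducibleComponent
  exact closure_mono (Set.singleton_subset_iff.2 hηU) (specializes_iff_mem_closure.1 this)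

end Groth.Agent.FlatDense
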